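import Mathlib
import Cfsg.Agent.Lib.Helper95.BG.S1428Defs
import Cfsg.Agent.Lib.Helper29.BG.LemK
import Cfsg.Agent.Lib.Helper13.BG.S1427A
import Cfsg.Agent.Lib.Helper66.BG.S1350Core
import Cfsg.Agent.Lib.Helper31.BG.SigmaHall
import Cfsg.Agent.Lib.Helper27.BG.SigmaBasic
import Cfsg.Agent.Lib.Helper74.BG.Tools
import Cfsg.Agent.Lib.Helper22.PComp
import Cfsg.Agent.Lib.Helper98.BG.T5

/-!
# S1428 (Bender–Glauberman Theorem 13.4), package B2

`lemB2 : LemB2`: for non-conjugate maximal subgroups `M`, `H` with `p ∈ τ₁(M) ∩ σ(H)` and a prime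
`t ∈ σ(M)` dividing `|H'|`, the prime `p` is ideal.  Paper proof: helper95's note 1956 (step B2).
-/

set_option autoImplicit false

namespace Cfsg.Agent.Lib.Helper52.BG

open Cfsg Subgroup Cfsg.Agent.Lib.Helper46 Cfsg.Agent.Lib.Helper95.BG28

universe u

variable {G : Type u} [Group G]

/-- If `D ≤ B ⊔ N`, `N` normalizes `B`, `p ∤ |B|` and `p ∣ |D|`, then `p ∣ |N|`. -/
theorem b2_dvd_of_le_sup [Finite G] {p : ℕ} (hp : p.Prime) {D B N : Subgroup G}
    (hle : D ≤ B ⊔ N) (hN : N ≤ normalizer (B : Set G)) (hB : ¬ p ∣ Nat.card B)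
    (hD : p ∣ Nat.card D) : p ∣ Nat.card N := by
  have h1 : Nat.card D ∣ Nat.card (B ⊔ N : Subgroup G) := Subgroup.card_dvd_of_le hle
  have h2 : Nat.card (N ⊔ B : Subgroup G) ∣ Nat.card N * Nat.card B :=
    Cfsg.Agent.Lib.Helper27.BG.card_sup_dvd_mul hN
  rw [sup_comm] at h2
  have h3 : p ∣ Nat.card N * Nat.card B := (hD.trans h1).trans h2
  rcases (Nat.Prime.dvd_mul hp).1 h3 with h | h
  · exact h
  · exact absurd h hB

/-- If `x` normalizes `T`, `x ∈ W`, `T` normalizes `W` and `T ⊓ W = ⊥`, then `x` centralizes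
`T`. -/
theorem b2_mem_centralizer {T W : Subgroup G} {x : G} (hxT : x ∈ normalizer (T : Set G))
    (hxW : x ∈ W) (hTW : T ≤ normalizer (W : Set G)) (hinf : T ⊓ W = ⊥) :
    x ∈ centralizer (T : Set G) := by
  rw [Subgroup.mem_centralizer_iff]
  intro s hs
  have h1 : x * s * x⁻¹ * s⁻¹ ∈ T := by
    have : x * s * x⁻¹ ∈ T := (Subgroup.mem_normalizer_iff.mp hxT s).mp hs
    exact T.mul_mem this (T.inv_mem hs)
  have h2 : x * s * x⁻¹ * s⁻¹ ∈ W := by
    have h : s * x⁻¹ * s⁻¹ ∈ W := (Subgroup.mem_normalizer_iff.mp (hTW hs) x⁻¹).mp (W.inv_mem hxW)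
    have h' := W.mul_mem hxW h
    have e : x * s * x⁻¹ * s⁻¹ = x * (s * x⁻¹ * s⁻¹) := by group
    rw [e]
    exact h'
  have h3 : x * s * x⁻¹ * s⁻¹ ∈ T ⊓ W := ⟨h1, h2⟩
  rw [hinf, Subgroup.mem_bot] at h3
  calc s * x = (x * s * x⁻¹ * s⁻¹) * (s * x) := by rw [h3, one_mul]
    _ = x * s := by group

/-- A Sylow subgroup of a nilpotent subgroup `Σ` is normalized by everything normalizing `Σ`. -/
theorem b2_le_normalizer_sylow [Finite G] {p : ℕ} [Fact p.Prime] {L S P : Subgroup G}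
    (hSL : L ≤ normalizer (S : Set G)) (hnil : Group.IsNilpotent S) (hP : IsSylowIn p P S) :
    L ≤ normalizer (P : Set G) := by
  intro l hl
  have hSl : S.map (MulAut.conj l).toMonoidHom = S := map_conj_eq_of_mem_normalizer (hSL hl)
  have hPl : IsSylowIn p (P.map (MulAut.conj l).toMonoidHom) S := by
    have := Cfsg.Agent.Lib.Helper35.BG.sylIn_map_conj hP l
    rwa [hSl] at this
  have hPp : IsPGroup p P := Cfsg.Agent.Lib.Helper35.BG.sylIn_isPGroup hP
  have hSP : S ≤ normalizer (P : Set G) :=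
    Cfsg.Agent.Lib.Helper74.BG.le_normalizer_of_isSylowIn_of_nilpotent hnil hP
  have h1 : P ≤ P.map (MulAut.conj l).toMonoidHom :=
    Cfsg.Agent.Lib.Helper35.BG.sylIn_normal_le hPl hPp hP.1 hSP
  have h2 : P.map (MulAut.conj l).toMonoidHom = P :=
    Cfsg.Agent.Lib.Helper35.BG.sylIn_eq_of_le hP (Cfsg.Agent.Lib.Helper35.BG.sylIn_isPGroup hPl)
      hPl.1 h1
  exact Cfsg.Agent.Lib.Helper35.BG.mem_normalizer_of_map_conj_eq h2

/-- Facts on `W = O_{q'}(K)` (as a subgroup of `G`): it lies in `K`, is normal in `K`, has order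
coprime to `q`, and its index in `K` is the index of the `q'`-core. -/
theorem b2_pPrimeCore_facts [Finite G] (q : ℕ) (K : Subgroup G) :
    ∃ W : Subgroup G, W ≤ K ∧ K ≤ normalizer (W : Set G) ∧ (Nat.card W).Coprime q ∧
      W.relIndex K = (pPrimeCore q ↥K).index := by
  refine ⟨(pPrimeCore q ↥K).map K.subtype, Subgroup.map_subtype_le _, ?_, ?_, ?_⟩
  · have : (pPrimeCore q ↥K).Normal := Cfsg.Agent.Lib.Helper22.pPrimeCore_normal' q ↥K
    exact Cfsg.Agent.Lib.Helper13.BG.le_normalizer_map_subtype _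
  · rw [Subgroup.card_map_of_injective K.subtype_injective]
    exact Cfsg.Agent.Lib.Helper22.card_pPrimeCore_coprime q ↥K
  · exact Cfsg.Agent.Lib.Helper67.BG.relIndex_map_subtype K _

/-- Package B2 of the S1428 project (BG 13.1(c)). -/
theorem lemB2 : LemB2.{u} := by
  intro hT hK0 hDer G _ _ hG hy M H hM hH hnc p hp hpH t ht htH
  by_contra hid
  obtain ⟨hpP, hpσM, hpM, hpM', hpr1⟩ := hp
  have htP : t.Prime := ht.1
  have : Fact p.Prime := ⟨hpP⟩
  have : Fact t.Prime := ⟨htP⟩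
  have hpβ : ∀ K : Subgroup G, p ∉ beta K := fun K h => hid h.2
  -- `K_σ` is a Hall subgroup
  have hHall : ∀ K : Subgroup G, IsCoatom K → IsPiHallOf (sigma K) (sigmaCore K) K :=
    fun K hK => (Cfsg.Agent.Lib.Helper66.BG.s1350_core hG hy.h1404 hy.h1405 K hK).1
  have hσle : ∀ (K : Subgroup G), IsCoatom K → ∀ (q : ℕ) [Fact q.Prime], q ∈ sigma K →
      ∀ Z : Subgroup G, IsPGroup q Z → Z ≤ K → Z ≤ sigmaCore K := by
    intro K hK q _ hq Z hZ hZK
    refine Cfsg.Agent.Lib.Helper74.BG.le_of_isPiHallOf_of_normal (hHall K hK)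
      (Cfsg.Agent.Lib.Helper67.BG.sigmaCore_normalizer K) hZK ?_
    intro q' hq' hdvd
    rw [Cfsg.Agent.Lib.Helper67.BG.prime_eq_of_dvd_card_isPGroup hZ hq' hdvd]
    exact hq
  -- Step 1: `t ∉ β(H)`
  have htβH : t ∉ beta H := fun h =>
    Cfsg.Agent.Lib.Helper13.BG.alpha_sigma_disjoint hG hy.h1403 hM hH hnc h.1 ht
  -- Step 2: `p ∣ |H'|`
  have hpH' : p ∣ Nat.card ↥⁅H, H⁆ := by
    obtain ⟨PH, hPH⟩ := Cfsg.Agent.Lib.Helper13.BG.exists_sylIn p H
    have hPHp : IsPGroup p PH := Cfsg.Agent.Lib.Helper35.BG.sylIn_isPGroup hPH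
    have hPH1 : PH ≠ ⊥ := Cfsg.Agent.Lib.Helper13.BG.sylIn_ne_bot hPH hpH.2.1
    have h1 : PH ≤ sigmaCore H := hσle H hH p hpH PH hPHp hPH.1
    have h2 : PH ≤ ⁅H, H⁆ :=
      h1.trans (Cfsg.Agent.Lib.Helper66.BG.sigmaCore_le_commutator hG hy.h1404 H hH)
    exact (Cfsg.Agent.Lib.Helper67.BG.dvd_card_of_isPGroup_ne_bot hPHp hPH1).trans
      (Subgroup.card_dvd_of_le h2)
  -- Step 3: a Sylow `t`-subgroup `Y` of `H'`
  obtain ⟨Y, hY⟩ := Cfsg.Agent.Lib.Helper13.BG.exists_sylIn t ⁅H, H⁆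
  have hY1 : Y ≠ ⊥ := Cfsg.Agent.Lib.Helper13.BG.sylIn_ne_bot hY htH
  have hYt : IsPGroup t Y := Cfsg.Agent.Lib.Helper35.BG.sylIn_isPGroup hY
  have hHK := hK0 hG hy H hH t htP htβH Y hY
  obtain ⟨K, hKdef⟩ : ∃ K, K = H ⊓ normalizer (Y : Set G) := ⟨_, rfl⟩
  rw [← hKdef] at hHK
  have hKH : K ≤ H := hKdef ▸ inf_le_left
  have hKY : K ≤ normalizer (Y : Set G) := hKdef ▸ inf_le_right
  -- Step 4: `p ∣ |K'|`
  have hBn : H ≤ normalizer ((piCoreOf (beta H) H : Subgroup G) : Set G) :=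
    Cfsg.Agent.Lib.Helper27.BG.le_normalizer_piCoreOf _ _
  have hpK' : p ∣ Nat.card ↥⁅K, K⁆ := by
    have hle : ⁅H, H⁆ ≤ piCoreOf (beta H) H ⊔ ⁅K, K⁆ := by
      refine Cfsg.Agent.Lib.Helper29.BG.commutator_le_sup_of_forall_mul hBn hKH ?_
      intro m hm
      have hm' : m ∈ piCoreOf (beta H) H ⊔ K := hHK.le hm
      obtain ⟨b, hb, n, hn, hmn⟩ :=
        Cfsg.Agent.Lib.Helper98.BG.exists_mul_of_mem_sup_norm (hKH.trans hBn) hm'
      exact ⟨b, hb, n, hn, hmn⟩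
    have hB : ¬ p ∣ Nat.card (piCoreOf (beta H) H) :=
      fun h => hpβ H ((hy.h1414 H hH).1.2.1 p hpP h)
    exact b2_dvd_of_le_sup hpP hle
      (((Cfsg.Agent.Lib.Helper29.BG.commutator_self_le K).trans hKH).trans hBn) hB hpH'
  -- Step 5: conjugate `Y` into `M`
  obtain ⟨TM0, hTM0⟩ := Cfsg.Agent.Lib.Helper13.BG.exists_sylIn t M
  have hTM0top : IsSylowIn t TM0 ⊤ := Cfsg.Agent.Lib.Helper35.BG.isSylowIn_top_of_sigma ht hTM0
  have hnd : ¬ t ∣ M.relIndex ⊤ :=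
    Cfsg.Agent.Lib.Helper31.BG.not_dvd_relIndex_of_sylIn_le hTM0top hTM0.1 le_top
  obtain ⟨g, -, hg⟩ :=
    Cfsg.Agent.Lib.Helper13.BG.exists_conj_le_of_not_dvd_relIndex hYt le_top le_top hnd
  obtain ⟨Y1, hY1def⟩ : ∃ Y1, Y1 = Y.map (MulAut.conj g).toMonoidHom := ⟨_, rfl⟩
  rw [← hY1def] at hg
  have hY1t : IsPGroup t Y1 := hY1def ▸ Cfsg.Agent.Lib.Helper35.BG.isPGroup_map_conj hYt g
  have hY1ne : Y1 ≠ ⊥ := by
    intro h
    have hc : Nat.card Y1 = Nat.card Y := by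
      rw [hY1def]; exact Cfsg.Agent.Lib.Helper35.BG.card_map_conj Y g
    rw [h, Subgroup.card_bot] at hc
    exact hY1 (Subgroup.card_eq_one.mp hc.symm)
  have hY1top : Y1 ≠ ⊤ := fun h => hM.1 (top_le_iff.mp (h ▸ hg))
  have hNne : normalizer (Y1 : Set G) ≠ ⊤ :=
    Cfsg.Agent.Lib.Helper35.BG.normalizer_ne_top hG hY1ne hY1top
  obtain ⟨L1, hL1, hNL1⟩ := Cfsg.Agent.Lib.Helper35.BG.exists_coatom_ge hNne
  have hpN : p ∣ Nat.card ↥⁅normalizer (Y1 : Set G), normalizer (Y1 : Set G)⁆ := by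
    have hK1 : K.map (MulAut.conj g).toMonoidHom ≤ normalizer (Y1 : Set G) := by
      rw [hY1def, Cfsg.Agent.Lib.Helper35.BG.normalizer_map_conj]
      exact Subgroup.map_mono hKY
    have h1 : (⁅K, K⁆).map (MulAut.conj g).toMonoidHom ≤
        ⁅normalizer (Y1 : Set G), normalizer (Y1 : Set G)⁆ := by
      rw [Subgroup.map_commutator]
      exact Subgroup.commutator_mono hK1 hK1
    have h2 : Nat.card ((⁅K, K⁆).map (MulAut.conj g).toMonoidHom) = Nat.card ↥⁅K, K⁆ :=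
      Cfsg.Agent.Lib.Helper35.BG.card_map_conj _ g
    have h3 : p ∣ Nat.card ((⁅K, K⁆).map (MulAut.conj g).toMonoidHom) := by
      rw [h2]; exact hpK'
    exact h3.trans (Subgroup.card_dvd_of_le h1)
  -- Step 6
  have hpL1' : p ∣ Nat.card ↥⁅L1, L1⁆ :=
    hpN.trans (Subgroup.card_dvd_of_le (Subgroup.commutator_mono hNL1 hNL1))
  by_cases hLM : L1 = M
  · rw [hLM] at hpL1'
    exact hpM' hpL1'
  obtain ⟨hnc1, hcase⟩ := hT hG hy M L1 hM hL1 hLM t ht Y1 hY1t hY1ne hg hNL1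
  rcases hcase with ⟨htL1, S, hY1S, hS, hSM, hSL, htβM, htβL⟩ |
    ⟨htτ, hLσM, B, F, hBF, hBea, hBcard, hF, hFM⟩
  · -- σ-case
    have h := hDer hG hy L1 hL1 t htP htβL S hS hSL p hpP (hpβ L1) hpL1'
    exact hpM' (h.trans (Subgroup.card_dvd_of_le (Subgroup.commutator_mono hSM hSM)))
  · -- τ₂-case
    by_cases hpσ : p ∈ sigma L1
    · have hBL1 : B ≤ L1 := hBF.trans hF.1
      have hBM : B ≤ M := hBF.trans hFM
      have hBt : IsPGroup t B := IsPGroup.of_card hBcard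
      have h17 := hy.h1417 L1 hL1 t htτ B ⟨hBL1, hBea, hBcard⟩
      have hnil : Group.IsNilpotent (sigmaCore L1) := h17.1
      have hCB : sigmaCore L1 ⊓ centralizer (B : Set G) = ⊥ := h17.2.2.2.1
      have hCBL : centralizer (B : Set G) ≤ L1 :=
        (hy.h1416 L1 hL1 t B ⟨hBL1, hBea, hBcard⟩).1
      have htσL : t ∉ sigma L1 := htτ.2.1
      have hpt : p ≠ t := fun h => htσL (h ▸ hpσ)
      -- `t < p`
      have htp : t < p := by
        by_contra hnot
        have hlt : p < t := lt_of_le_of_ne (not_lt.mp hnot) hpt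
        obtain ⟨P1, hP1⟩ := Cfsg.Agent.Lib.Helper13.BG.exists_sylIn p L1
        have hP1p : IsPGroup p P1 := Cfsg.Agent.Lib.Helper35.BG.sylIn_isPGroup hP1
        have hP1ne : P1 ≠ ⊥ := Cfsg.Agent.Lib.Helper13.BG.sylIn_ne_bot hP1 hpσ.2.1
        have hP1σ : P1 ≤ sigmaCore L1 := hσle L1 hL1 p hpσ P1 hP1p hP1.1
        have hP1' : IsSylowIn p P1 (sigmaCore L1) :=
          Cfsg.Agent.Lib.Helper35.BG.sylIn_mono hP1 hP1σ (Cfsg.Agent.Lib.Helper67.BG.sigmaCore_le L1)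
        have hLP1 : L1 ≤ normalizer (P1 : Set G) :=
          b2_le_normalizer_sylow (Cfsg.Agent.Lib.Helper67.BG.sigmaCore_normalizer L1) hnil hP1'
        have h14 := (hy.h1414 L1 hL1).2.2.2.2 p hpP hpσ.2.1 (hpβ L1)
        have hnt : ¬ t ∣ (pPrimeCore p ↥L1).index :=
          fun h => absurd (h14.2.2 t htP h) (not_le.mpr hlt)
        obtain ⟨W, hWL, hWn, hWcard, hWidx⟩ := b2_pPrimeCore_facts p L1
        have hBW : B ≤ W := by
          refine Cfsg.Agent.Lib.Helper27.BG.le_of_coprime_relIndex hWL hWn hBL1 ?_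
          rw [hBcard, hWidx]
          exact Nat.Coprime.pow_left 2 ((Nat.Prime.coprime_iff_not_dvd htP).mpr hnt)
        have hinf : P1 ⊓ W = ⊥ := by
          refine (Subgroup.disjoint_of_coprime_natCard ?_).eq_bot
          rw [hP1.2]
          exact Nat.Coprime.pow_left _ hWcard.symm
        have hBC : B ≤ centralizer (P1 : Set G) := fun b hb =>
          b2_mem_centralizer (hLP1 (hBL1 hb)) (hBW hb) (hP1.1.trans hWn) hinf
        have hP1C : P1 ≤ centralizer (B : Set G) := Subgroup.le_centralizer_iff.mp hBC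
        have hle : P1 ≤ sigmaCore L1 ⊓ centralizer (B : Set G) := le_inf hP1σ hP1C
        rw [hCB] at hle
        exact hP1ne (le_bot_iff.mp hle)
      -- `t` is not ideal
      have htni : ¬ IsIdealPrime t G := (hy.h1408 L1 hL1 t htτ.2.1 htτ.2.2.1 htτ.2.2.2).1
      have htβM : t ∉ beta M := fun h => htni h.2
      have h14M := (hy.h1414 M hM).2.2.2.2 t htP ht.2.1 htβM
      have hnp : ¬ p ∣ (pPrimeCore t ↥M).index :=
        fun h => absurd (h14M.2.2 p hpP h) (not_le.mpr htp)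
      obtain ⟨W, hWM, hWn, hWcard, hWidx⟩ := b2_pPrimeCore_facts t M
      obtain ⟨TM, hTM, hBTM⟩ := Cfsg.Agent.Lib.Helper35.BG.exists_isSylowIn_ge hBt hBM
      have hTMt : IsPGroup t TM := Cfsg.Agent.Lib.Helper35.BG.sylIn_isPGroup hTM
      have hTMσ : TM ≤ sigmaCore M := hσle M hM t ht TM hTMt hTM.1
      have hTM' : IsSylowIn t TM (sigmaCore M) :=
        Cfsg.Agent.Lib.Helper35.BG.sylIn_mono hTM hTMσ (Cfsg.Agent.Lib.Helper67.BG.sigmaCore_le M)
      -- Frattini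
      obtain ⟨D, hDdef⟩ : ∃ D, D = M ⊓ normalizer (TM : Set G) := ⟨_, rfl⟩
      have hDM : D ≤ M := hDdef ▸ inf_le_left
      have hDN : D ≤ normalizer (TM : Set G) := hDdef ▸ inf_le_right
      have hrel : D.relIndex M ∣ Nat.card (sigmaCore M) := by
        refine Cfsg.Agent.Lib.Helper74.BG.relIndex_dvd_card_of_forall_mul
          (Cfsg.Agent.Lib.Helper67.BG.sigmaCore_le M)
          (Cfsg.Agent.Lib.Helper67.BG.sigmaCore_normalizer M) ?_
        intro m hm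
        obtain ⟨k, hk, hkm⟩ := Cfsg.Agent.Lib.Helper74.BG.frattini_arg hTM'
          (Cfsg.Agent.Lib.Helper67.BG.sigmaCore_normalizer M hm)
        refine ⟨k, hk, k⁻¹ * m, ?_, by group⟩
        rw [hDdef]
        exact ⟨M.mul_mem (M.inv_mem (Cfsg.Agent.Lib.Helper67.BG.sigmaCore_le M hk)) hm, hkm⟩
      have hpD : p ∣ Nat.card D := by
        have h1 : Nat.card D * D.relIndex M = Nat.card M :=
          Cfsg.Agent.Lib.Helper35.BG.card_mul_relIndex' hDM
        have h2 : p ∣ Nat.card D * D.relIndex M := by rw [h1]; exact hpM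
        rcases (Nat.Prime.dvd_mul hpP).1 h2 with h | h
        · exact h
        · exact absurd (Cfsg.Agent.Lib.Helper67.BG.sigmaCore_isPi M p hpP (h.trans hrel)) hpσM
      obtain ⟨x, hx⟩ := exists_prime_orderOf_dvd_card' p hpD
      have hxo : orderOf (x : G) = p := by rw [Subgroup.orderOf_coe]; exact hx
      have hxM : (x : G) ∈ M := hDM x.2
      have hxN : (x : G) ∈ normalizer (TM : Set G) := hDN x.2
      have hzc : Nat.card (zpowers (x : G)) = p :=
        Cfsg.Agent.Lib.Helper27.BG.card_zpowers_of_orderOf hxo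
      have hzM : zpowers (x : G) ≤ M := by rw [Subgroup.zpowers_le]; exact hxM
      have hxW : (x : G) ∈ W := by
        have hz : zpowers (x : G) ≤ W := by
          refine Cfsg.Agent.Lib.Helper27.BG.le_of_coprime_relIndex hWM hWn hzM ?_
          rw [hzc, hWidx]
          exact (Nat.Prime.coprime_iff_not_dvd hpP).mpr hnp
        exact hz (Subgroup.mem_zpowers _)
      have hinf : TM ⊓ W = ⊥ := by
        refine (Subgroup.disjoint_of_coprime_natCard ?_).eq_bot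
        rw [hTM.2]
        exact Nat.Coprime.pow_left _ hWcard.symm
      have hxC : (x : G) ∈ centralizer (TM : Set G) :=
        b2_mem_centralizer hxN hxW (hTM.1.trans hWn) hinf
      have hxCB : (x : G) ∈ centralizer (B : Set G) :=
        Subgroup.centralizer_le (SetLike.coe_subset_coe.mpr hBTM) hxC
      have hxL1 : (x : G) ∈ L1 := hCBL hxCB
      have hzL : zpowers (x : G) ≤ sigmaCore L1 :=
        hσle L1 hL1 p hpσ _ (IsPGroup.of_card (n := 1) (by rw [hzc, pow_one]))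
          (by rw [Subgroup.zpowers_le]; exact hxL1)
      have hx1 : (x : G) ∈ sigmaCore L1 ⊓ M := ⟨hzL (Subgroup.mem_zpowers _), hxM⟩
      rw [hLσM, Subgroup.mem_bot] at hx1
      rw [hx1, orderOf_one] at hxo
      exact hpP.ne_one hxo.symm
    · -- `p ∉ σ(L1)`
      have hle : ⁅L1, L1⁆ ≤ sigmaCore L1 ⊔ ⁅F, F⁆ := by
        refine Cfsg.Agent.Lib.Helper29.BG.commutator_le_sup_of_forall_mul
          (Cfsg.Agent.Lib.Helper67.BG.sigmaCore_normalizer L1) hF.1 ?_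
        intro m hm
        obtain ⟨a, ha, b, hb, hab⟩ := hF.2.2.2 m⁻¹ (L1.inv_mem hm)
        refine ⟨b⁻¹, (sigmaCore L1).inv_mem hb, a⁻¹, F.inv_mem ha, ?_⟩
        rw [← mul_inv_rev, ← hab, inv_inv]
      have hB : ¬ p ∣ Nat.card (sigmaCore L1) :=
        fun h => hpσ (Cfsg.Agent.Lib.Helper67.BG.sigmaCore_isPi L1 p hpP h)
      have h := b2_dvd_of_le_sup hpP hle
        (((Cfsg.Agent.Lib.Helper29.BG.commutator_self_le F).trans hF.1).trans
          (Cfsg.Agent.Lib.Helper67.BG.sigmaCore_normalizer L1)) hB hpL1'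
      exact hpM' (h.trans (Subgroup.card_dvd_of_le (Subgroup.commutator_mono hFM hFM)))

end Cfsg.Agent.Lib.Helper52.BG
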